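import Cfsg.Agent.H716.Dg.Common
import Cfsg.Agent.H304.Psl3
import Cfsg.Agent.H947.El.PsuC

/-!
# S5734: the row `PSU₃(q)` (helper716, task 2836), after helper947's `H947/El/PsuC`
-/

set_option autoImplicit false
set_option linter.style.haveILetI false

namespace Cfsg.Agent.H716.Dg

open Matrix Cfsg Cfsg.Geo Cfsg.Agent.H851.Dg Cfsg.Agent.H728.DghpNum Cfsg.Agent.H918 Cfsg.Agent.H947.El
  Cfsg.Agent.H907.Mx

variable {F : Type*} [Field F] [Fintype F] {q : ℕ}

theorem ppd_of_PN {p n r : ℕ} (h : PN F p n q r) : Ppd (Fintype.card F) 3 r := by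
  refine ⟨h.pr, ?_, ?_⟩
  · have := h.ho
    rwa [Nat.card_eq_fintype_card] at this
  · rw [h.cF]
    exact fun hd => h.rp (h.pr.dvd_of_dvd_pow hd)

/-- **maximal subgroups of `SU₃(q)`** -/
theorem outA_su (hF : Fintype.card F = q ^ 2) (hq : 6 ≤ q) {c : ℕ} {p n r : ℕ} (h : PN F p n q r) (hr : r ∣ c)
    {H : Subgroup (GL (Fin 3) F)} (hH : IsMaximalIn (SUg 3 F q) H) : OutA c H := by
  have key : (∀ x ∈ H, x ^ r = 1 → x ≠ 1 → False) → OutA c H := by
    intro h1
    refine Or.inl ⟨r, ppd_of_PN h, hr, fun x hx hxr => h1 x hx ?_ ?_⟩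
    · rw [← hxr]; exact pow_orderOf_eq_one x
    · rintro rfl
      rw [orderOf_one] at hxr
      exact h.pr.one_lt.ne hxr
  have hM : ∀ {x : GL (Fin 3) F}, x ^ r = 1 → (x : Matrix (Fin 3) (Fin 3) F) ^ r = 1 := by
    intro x hX
    rw [← Units.val_pow_eq_pow_val, hX, Units.val_one]
  have hM1 : ∀ {x : GL (Fin 3) F}, x ≠ 1 → (x : Matrix (Fin 3) (Fin 3) F) ≠ 1 := by
    intro x hX1 h8
    exact hX1 (Units.ext (by rw [h8, Units.val_one]))
  rcases Cfsg.Agent.S5778.result q hF (by omega) H hH with ⟨W, hW0, hWs, he⟩ | ⟨W, hW0, hWn, hW3, he⟩ | ⟨-, D, hD, he⟩ |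
    ⟨-, -, K, hK, -, he⟩ | ⟨F₀, l, P, hl, hlo, hc, -, he⟩ | ⟨-, -, F₀, P, hc, -, he⟩ |
    ⟨p', R, hp', -, -, h11, -, hirr, -, h27, h3, he⟩ | hres
  · refine key fun x hxH hX hX1 => ?_
    rw [he] at hxH
    refine h.no_sub (hM hX) (hM1 hX1) hW0 ?_ (fun v hv => (hxH.1 v).1 hv)
    rintro rfl
    have h1 := hWs (Pi.single 0 1) trivial (Pi.single 0 1) trivial
    have hq0 : q ≠ 0 := by omega
    simp [hermForm, Fin.sum_univ_three, zero_pow hq0] at h1
  · refine key fun x hxH hX hX1 => ?_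
    rw [he] at hxH
    refine h.no_sub (hM hX) (hM1 hX1) hW0 ?_ (fun v hv => (hxH.1 v).1 hv)
    rintro rfl
    rw [finrank_top, Module.finrank_fin_fun] at hW3
    omega
  · refine key fun x hxH hX hX1 => ?_
    rw [he] at hxH
    exact h.no_dec hX hX1 hD.decomp.finrank_eq hxH.1
  · refine Or.inr fun x hx P => not_reg_field c3 hK ?_
    rw [he] at hx
    exact hx.1
  · refine key fun x hxH hX hX1 => ?_
    rw [he] at hxH
    exact h.no_subfield hX hX1 hl.two_le hc hxH.1
  · refine key fun x hxH hX hX1 => ?_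
    rw [he] at hxH
    exact h.no_subfield hX hX1 le_rfl hc hxH.1
  · refine key fun x hxH hX hX1 => ?_
    rw [he] at hxH
    have h5 : 5 ≤ r := by have := h.ge; have := h.n0; omega
    exact h.no_scalar hX hX1 (symp_prime hirr h27 h3 hxH.1 h.pr h5 hX)
  · obtain ⟨P, hcore, hqp, hcases⟩ := Cfsg.Agent.S5779.result q hF (by omega) H hH hres
    rcases hcases with ⟨⟨e⟩, -, -⟩ | ⟨⟨e⟩, -⟩ | ⟨⟨e⟩, hq5⟩
    · refine Or.inr fun x hx P => not_reg_residual c336 hcore ?_ hx
      rw [Nat.card_congr (MulAut.congr e).toEquiv, Cfsg.Agent.H304.Psl3.card_mulAut_L32]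
    · refine Or.inr fun x hx P => not_reg_residual c1440 hcore ?_ hx
      rw [Nat.card_congr (MulAut.congr e).toEquiv]
      exact H753.ResCard.card_mulAut_A6
    · omega

theorem card_norm_one (hF : Fintype.card F = q ^ 2) : Nat.card (powMonoidHom (q + 1) : Fˣ →* Fˣ).ker = q + 1 := by
  rw [IsCyclic.card_powMonoidHom_ker, Nat.card_units, Nat.card_eq_fintype_card, hF]
  have h1 : q ^ 2 - 1 = (q + 1) * (q - 1) := by
    have := Nat.sq_sub_sq q 1
    rwa [one_pow] at this
  rw [h1, Nat.gcd_comm]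
  exact Nat.gcd_mul_right_right _ _

/-- `PSU₃(q)`, `q` large -/
theorem psu3_large (hF : Fintype.card F = q ^ 2) (hbig : 6 * NN < q) {M : Subgroup (PSU 3 F q)}
    (hM : IsCoatom M) : (1 / 54 : ℝ) * (Nat.card (PSU 3 F q) : ℝ) ≤ nd M := by
  have hNN : NN = 10080 := rfl
  obtain ⟨p, n, r, h, hchar⟩ := exists_PN hF (by omega)
  obtain ⟨hrT, -, -⟩ := psu3_orders hF h
  have hrS : r ∣ Nat.card (SU 3 F q) := hrT.trans (Subgroup.card_quotient_dvd_card _)
  have hmax : IsMaximalIn (SUg 3 F q) ((M.comap (QuotientGroup.mk' (Subgroup.center (SU 3 F q)))).map (suHom 3 F q)) := by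
    have := isMaximalIn_of_coatom (QuotientGroup.mk' (Subgroup.center (SU 3 F q))) (QuotientGroup.mk'_surjective _)
      (suHom 3 F q) suHom_injective hM
    rwa [range_suHom] at this
  refine nd_of_outA (suHom 3 F q) suHom_injective (QuotientGroup.mk' (Subgroup.center (SU 3 F q)))
    (QuotientGroup.mk'_surjective _) (powMonoidHom (q + 1) : Fˣ →* Fˣ).ker ?_ ?_ ?_
    (outA_su hF (by omega) h hrS hmax)
  · rw [card_norm_one hF]
    omega
  · intro a ha b hb
    have ha' : a ^ (q + 1) = 1 := ha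
    have hb' : b ^ (q + 1) = 1 := hb
    have hu : ∀ x : Fˣ, x ^ (q + 1) = 1 → (x : F) * (x : F) ^ q = 1 := by
      intro x hx
      rw [← pow_succ', ← Units.val_pow_eq_pow_val, hx, Units.val_one]
    have hab : ((a * b)⁻¹) ^ (q + 1) = 1 := by rw [inv_pow, mul_pow, ha', hb', one_mul, inv_one]
    have hdet : (diagonal ![(a : F), (b : F), (((a * b)⁻¹ : Fˣ) : F)] : Matrix (Fin 3) (Fin 3) F).det = 1 := by
      rw [Matrix.det_diagonal, Fin.prod_univ_three]
      show (a : F) * b * (((a * b)⁻¹ : Fˣ) : F) = 1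
      rw [← Units.val_mul, ← Units.val_mul, mul_inv_cancel, Units.val_one]
    refine ⟨⟨⟨diagonal ![(a : F), (b : F), (((a * b)⁻¹ : Fˣ) : F)], hdet⟩, ?_⟩, rfl⟩
    intro v w
    show hermForm 3 F q (diagonal ![(a : F), (b : F), (((a * b)⁻¹ : Fˣ) : F)] *ᵥ v)
      (diagonal ![(a : F), (b : F), (((a * b)⁻¹ : Fˣ) : F)] *ᵥ w) = hermForm 3 F q v w
    unfold hermForm
    rw [Fin.sum_univ_three, Fin.sum_univ_three]
    simp only [Matrix.mulVec_diagonal]
    show (a : F) * v 0 * ((a : F) * w 0) ^ q + (b : F) * v 1 * ((b : F) * w 1) ^ q +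
      (((a * b)⁻¹ : Fˣ) : F) * v 2 * ((((a * b)⁻¹ : Fˣ) : F) * w 2) ^ q = _
    rw [mul_pow, mul_pow, mul_pow]
    linear_combination v 0 * w 0 ^ q * hu a ha' + v 1 * w 1 ^ q * hu b hb' + v 2 * w 2 ^ q * hu _ hab
  · intro g d hd
    have hd' : (((g : SU 3 F q) : Matrix.SpecialLinearGroup (Fin 3) F) : Matrix (Fin 3) (Fin 3) F) = diagonal d := hd
    have h1 : d 0 * d 1 * d 2 = 1 := by
      have h2 := g.1.2
      rw [hd', Matrix.det_diagonal, Fin.prod_univ_three] at h2
      exact h2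
    have h0 : d 0 ≠ 0 := by
      intro h
      rw [h] at h1
      simp at h1
    have h0' : d 1 ≠ 0 := by
      intro h
      rw [h] at h1
      simp at h1
    have hq0 : q ≠ 0 := by omega
    have hiso : ∀ i, d i ^ (q + 1) = 1 := by
      intro i
      have h2 := g.2 (Pi.single i 1) (Pi.single i 1)
      change hermForm 3 F q (((g : SU 3 F q) : Matrix.SpecialLinearGroup (Fin 3) F).1 *ᵥ (Pi.single i 1))
        (((g : SU 3 F q) : Matrix.SpecialLinearGroup (Fin 3) F).1 *ᵥ (Pi.single i 1)) =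
        hermForm 3 F q (Pi.single i 1) (Pi.single i 1) at h2
      rw [hd', Matrix.mulVec_single_one] at h2
      unfold hermForm at h2
      have h3 : ∀ j, (diagonal d : Matrix (Fin 3) (Fin 3) F).col i j = if j = i then d i else 0 := by
        intro j
        rw [Matrix.col_apply, Matrix.diagonal_apply]
        split_ifs with h4
        · rw [h4]
        · rfl
      simp only [h3, Pi.single_apply] at h2
      rw [Finset.sum_eq_single i, Finset.sum_eq_single i] at h2
      · simp only [if_true, one_pow, mul_one] at h2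
        rw [pow_succ']
        exact h2
      · intro j _ hj
        rw [if_neg hj, zero_mul]
      · intro h4; exact absurd (Finset.mem_univ _) h4
      · intro j _ hj
        rw [if_neg hj, zero_mul]
      · intro h4; exact absurd (Finset.mem_univ _) h4
    refine ⟨Units.mk0 _ h0, ?_, Units.mk0 _ h0', ?_, ?_⟩
    · exact Units.ext (by rw [powMonoidHom_apply, Units.val_pow_eq_pow_val, Units.val_mk0, hiso, Units.val_one])
    · exact Units.ext (by rw [powMonoidHom_apply, Units.val_pow_eq_pow_val, Units.val_mk0, hiso, Units.val_one])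
    · funext i
      fin_cases i
      · rfl
      · rfl
      · show d 2 = (((Units.mk0 _ h0 * Units.mk0 _ h0')⁻¹ : Fˣ) : F)
        rw [Units.val_inv_eq_inv_val, Units.val_mul, Units.val_mk0, Units.val_mk0]
        exact eq_inv_of_mul_eq_one_right h1

theorem psu3_all (hF : Fintype.card F = q ^ 2) {M : Subgroup (PSU 3 F q)}
    (hM : IsCoatom M) : (1 / BB : ℝ) * (Nat.card (PSU 3 F q) : ℝ) ≤ nd M := by
  by_cases hbig : 6 * NN < q
  · exact of_large (psu3_large hF hbig hM)
  · have hfin : Finite (PSU 3 F q) := Quotient.finite _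
    refine nd_small ?_ hM
    have h1 : Nat.card (PSU 3 F q) ≤ Nat.card (SU 3 F q) :=
      Nat.card_le_card_of_surjective _ (QuotientGroup.mk'_surjective (Subgroup.center (SU 3 F q)))
    have h2 : Nat.card (SU 3 F q) ≤ Nat.card (Matrix.SpecialLinearGroup (Fin 3) F) :=
      Subgroup.card_le_card_group _
    refine ((h1.trans h2).trans card_sl_le).trans ?_
    rw [hF, ← pow_mul]
    exact BB_le (not_lt.1 hbig)

end Cfsg.Agent.H716.Dg
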