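import Cfsg.Agent.H716.Dg.Psl
import Cfsg.Agent.H716.Dg.Psu

/-!
# S5734: the rows `PSL₃(q)` and `PSU₃(q)` (helper716, task 2836)
-/

set_option autoImplicit false

namespace Cfsg.Agent.H716.Dg

open Cfsg.Agent.H851.Dg

theorem one_div_BB_pos : (0 : ℝ) < 1 / BB := by
  have := BB_large
  positivity

/-- **The row `PSL₃(q)`.** -/
theorem row_psl3 : ∃ c : ℝ, 0 < c ∧ ∀ (F : Type) [Field F] [Fintype F],
    RowB c (Matrix.ProjectiveSpecialLinearGroup (Fin 3) F) :=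
  ⟨1 / BB, one_div_BB_pos, fun _ _ _ _ hK => psl3_all hK⟩

/-- **The row `PSU₃(q)`.** -/
theorem row_psu3 : ∃ c : ℝ, 0 < c ∧ ∀ (F : Type) [Field F] [Fintype F] (q : ℕ), Fintype.card F = q ^ 2 → 3 ≤ q →
    RowB c (Cfsg.PSU 3 F q) :=
  ⟨1 / BB, one_div_BB_pos, fun _ _ _ _ hF _ _ hK => psu3_all hF hK⟩

end Cfsg.Agent.H716.Dg
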