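import Cfsg.Agent.H851.Dg.Defs

/-!
# S5734: counting elements conjugate into a torus (helper716, task 2836)
-/

set_option autoImplicit false

namespace Cfsg.Agent.H716.Dg

open Cfsg.Agent.H851.Dg

theorem comm_aux {G : Type*} [Group G] {g y b x : G} (h1 : g * b * g⁻¹ = x) (h2 : y * b * y⁻¹ = x) :
    y⁻¹ * g * b = b * (y⁻¹ * g) := by
  have h3 : y * b = x * y := by rw [← h2]; group
  have h4 : g * b = x * g := by rw [← h1]; group
  calc y⁻¹ * g * b = y⁻¹ * (g * b) := by group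
    _ = y⁻¹ * (x * y) * (y⁻¹ * g) := by rw [h4]; group
    _ = b * (y⁻¹ * g) := by rw [← h3]; group

/-- the number of conjugates of regular elements of `C` -/
theorem torus_count {G : Type*} [Group G] [Finite G] (C : Subgroup G) (E : Set G) (k : ℕ)
    (hC : ∀ a ∈ E, ∀ g : G, g * a = a * g → g ∈ C)
    (hk : ∀ a ∈ E, Nat.card {b : G // b ∈ E ∧ IsConj a b} ≤ k) :
    Nat.card E * Nat.card G ≤ k * Nat.card C * Nat.card {x : G // ∃ a ∈ E, IsConj a x} := by
  classical
  have : Fintype G := Fintype.ofFinite G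
  let f : E × G → {x : G // ∃ a ∈ E, IsConj a x} := fun p =>
    ⟨p.2 * p.1.1 * p.2⁻¹, p.1.1, p.1.2, isConj_iff.2 ⟨p.2, rfl⟩⟩
  have hfib : ∀ x : {x : G // ∃ a ∈ E, IsConj a x}, Nat.card {p : E × G // f p = x} ≤ k * Nat.card C := by
    rintro ⟨x, a, ha, hax⟩
    -- a conjugating element for each `b`
    have hch : ∀ b : {b : G // b ∈ E ∧ IsConj a b}, ∃ h : G, h * b.1 * h⁻¹ = x := by
      rintro ⟨b, hb, hab⟩
      exact isConj_iff.1 (hab.symm.trans hax)
    choose h hh using hch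
    let φ : {p : E × G // f p = ⟨x, a, ha, hax⟩} → {b : G // b ∈ E ∧ IsConj a b} × C := fun p =>
      (⟨p.1.1.1, p.1.1.2, by
          have h1 : p.1.2 * p.1.1.1 * p.1.2⁻¹ = x := congrArg Subtype.val p.2
          exact hax.trans (isConj_iff.2 ⟨p.1.2, h1⟩).symm⟩,
        ⟨(h ⟨p.1.1.1, p.1.1.2, by
          have h1 : p.1.2 * p.1.1.1 * p.1.2⁻¹ = x := congrArg Subtype.val p.2
          exact hax.trans (isConj_iff.2 ⟨p.1.2, h1⟩).symm⟩)⁻¹ * p.1.2, by
          have h1 : p.1.2 * p.1.1.1 * p.1.2⁻¹ = x := congrArg Subtype.val p.2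
          exact hC p.1.1.1 p.1.1.2 _
            (comm_aux h1 (hh ⟨p.1.1.1, p.1.1.2, hax.trans (isConj_iff.2 ⟨p.1.2, h1⟩).symm⟩))⟩)
    have hφ : Function.Injective φ := by
      rintro ⟨⟨⟨b, hb⟩, g⟩, hp⟩ ⟨⟨⟨b', hb'⟩, g'⟩, hp'⟩ he
      have e1 : b = b' := congrArg (fun z => z.1.1) he
      subst e1
      have e2 : (h _)⁻¹ * g = (h _)⁻¹ * g' := congrArg (fun z => (z.2 : G)) he
      have e3 : g = g' := mul_left_cancel e2
      subst e3
      rfl
    calc Nat.card {p : E × G // f p = ⟨x, a, ha, hax⟩} ≤ Nat.card ({b : G // b ∈ E ∧ IsConj a b} × C) :=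
          Nat.card_le_card_of_injective φ hφ
      _ = Nat.card {b : G // b ∈ E ∧ IsConj a b} * Nat.card C := Nat.card_prod _ _
      _ ≤ k * Nat.card C := Nat.mul_le_mul_right _ (hk a ha)
  have h1 : Nat.card (E × G) = ∑ x : {x : G // ∃ a ∈ E, IsConj a x}, Nat.card {p : E × G // f p = x} := by
    rw [← Nat.card_sigma]
    exact (Nat.card_congr (Equiv.sigmaFiberEquiv f)).symm
  rw [← Nat.card_prod, h1]
  calc ∑ x : {x : G // ∃ a ∈ E, IsConj a x}, Nat.card {p : E × G // f p = x}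
      ≤ ∑ _x : {x : G // ∃ a ∈ E, IsConj a x}, k * Nat.card C := Finset.sum_le_sum fun x _ => hfib x
    _ = _ := by
      rw [Finset.sum_const, Finset.card_univ, smul_eq_mul, ← Nat.card_eq_fintype_card, mul_comm]

/-- passing to a quotient -/
theorem nd_comap_le {G T : Type*} [Group G] [Group T] [Finite G] (π : G →* T) (hπ : Function.Surjective π)
    (K : Subgroup T) : nd (K.comap π) ≤ Nat.card π.ker * nd K := by
  classical
  have : Finite T := Finite.of_surjective π hπ
  let h : {t : T // ∀ g : T, g * t * g⁻¹ ∉ K} → G := fun t => (hπ t.1).choose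
  have hh : ∀ t, π (h t) = t.1 := fun t => (hπ t.1).choose_spec
  let f : {x : G // ∀ g : G, g * x * g⁻¹ ∉ K.comap π} → {t : T // ∀ g : T, g * t * g⁻¹ ∉ K} := fun x =>
    ⟨π x.1, fun g hg => by
      obtain ⟨y, rfl⟩ := hπ g
      refine x.2 y ?_
      rw [Subgroup.mem_comap, map_mul, map_mul, map_inv]
      exact hg⟩
  let φ : {x : G // ∀ g : G, g * x * g⁻¹ ∉ K.comap π} → π.ker × {t : T // ∀ g : T, g * t * g⁻¹ ∉ K} := fun x =>
    (⟨(h (f x))⁻¹ * x.1, by
      rw [MonoidHom.mem_ker, map_mul, map_inv, hh]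
      exact inv_mul_cancel _⟩, f x)
  have hφ : Function.Injective φ := by
    intro x y he
    have e1 : f x = f y := congrArg Prod.snd he
    have e2 : (h (f x))⁻¹ * x.1 = (h (f y))⁻¹ * y.1 := congrArg (fun z => (z.1 : G)) he
    rw [e1] at e2
    exact Subtype.ext (mul_left_cancel e2)
  unfold nd
  rw [← Nat.card_prod]
  exact Nat.card_le_card_of_injective φ hφ

theorem of_comap {G T : Type*} [Group G] [Group T] [Finite G] (π : G →* T) (hπ : Function.Surjective π)
    (K : Subgroup T) {c : ℝ} (h : c * (Nat.card G : ℝ) ≤ nd (K.comap π)) : c * (Nat.card T : ℝ) ≤ nd K := by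
  have h1 := nd_comap_le π hπ K
  have h2 : Nat.card G = Nat.card π.ker * Nat.card T := by
    rw [Subgroup.card_eq_card_quotient_mul_card_subgroup π.ker, mul_comm]
    congr 1
    exact Nat.card_congr (QuotientGroup.quotientKerEquivOfSurjective π hπ).toEquiv
  have h3 : (0 : ℝ) < Nat.card π.ker := by exact_mod_cast Nat.card_pos
  have h4 : (nd (K.comap π) : ℝ) ≤ Nat.card π.ker * nd K := by exact_mod_cast h1
  rw [h2] at h
  push_cast at h
  refine le_of_mul_le_mul_left ?_ h3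
  linarith

theorem charpoly_aux {F : Type*} [Field F] {X Y M : Matrix (Fin 3) (Fin 3) F} (h : Y * X = 1) :
    (X * M * Y).charpoly = M.charpoly := by
  rw [Matrix.charpoly_mul_comm, ← Matrix.mul_assoc, h, Matrix.one_mul]

theorem charpoly_of_conj {F : Type*} [Field F] {G : Type*} [Group G] (φ : G →* Matrix.GeneralLinearGroup (Fin 3) F)
    {a b : G} (h : IsConj a b) : ((φ a : Matrix.GeneralLinearGroup (Fin 3) F) : Matrix (Fin 3) (Fin 3) F).charpoly =
      ((φ b : Matrix.GeneralLinearGroup (Fin 3) F) : Matrix (Fin 3) (Fin 3) F).charpoly := by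
  obtain ⟨g, hg⟩ := isConj_iff.1 h
  have h2 : ((φ g⁻¹ : Matrix.GeneralLinearGroup (Fin 3) F) : Matrix (Fin 3) (Fin 3) F) *
      (φ g : Matrix.GeneralLinearGroup (Fin 3) F) = 1 := by
    rw [← Units.val_mul, ← map_mul, inv_mul_cancel, map_one, Units.val_one]
  rw [← hg, map_mul, map_mul, Units.val_mul, Units.val_mul, charpoly_aux h2]

end Cfsg.Agent.H716.Dg
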