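import Cfsg.Agent.H716.Dg.Cnt

/-!
# S5734: regular diagonal elements in subgroups of `GL₃(F)` (helper716, task 2836)
-/

set_option autoImplicit false

namespace Cfsg.Agent.H716.Dg

open Matrix Cfsg.Agent.H851.Dg

section

variable {F : Type*} [Field F] [Fintype F]

/-- the pairs with a bad quotient -/
theorem card_bad_le (A : Subgroup Fˣ) {N : ℕ} (hN : 0 < N) (g : A × A → A × A) (hg : Function.Injective g) :
    Nat.card {p : A × A // (g p).1 ^ N = 1} ≤ N * Nat.card A := by
  classical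
  have : NeZero N := ⟨hN.ne'⟩
  have h1 : Nat.card (rootsOfUnity N F) ≤ N := card_rootsOfUnity F N
  refine le_trans ?_ (Nat.mul_le_mul_right _ h1)
  rw [← Nat.card_prod]
  refine Nat.card_le_card_of_injective (fun p => (⟨((g p.1).1 : Fˣ), ?_⟩, (g p.1).2)) ?_
  · rw [mem_rootsOfUnity]
    exact congrArg Subtype.val p.2
  · intro p q hpq
    apply Subtype.ext
    apply hg
    have e1 : (((g p.1).1 : A) : Fˣ) = (g q.1).1 :=
      congrArg (fun z : rootsOfUnity N F × A => ((z.1 : rootsOfUnity N F) : Fˣ)) hpq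
    have e2 : (g p.1).2 = (g q.1).2 := congrArg (fun z : rootsOfUnity N F × A => z.2) hpq
    exact Prod.ext (Subtype.ext e1) e2

/-- good pairs -/
def Good (A : Subgroup Fˣ) (N : ℕ) (p : A × A) : Prop :=
  p.1 ^ N ≠ p.2 ^ N ∧ p.1 ^ N ≠ ((p.1 * p.2)⁻¹) ^ N ∧ p.2 ^ N ≠ ((p.1 * p.2)⁻¹) ^ N

theorem card_good (A : Subgroup Fˣ) {N : ℕ} (hN : 0 < N) (hA : 6 * N ≤ Nat.card A) :
    Nat.card A * Nat.card A ≤ 2 * Nat.card {p : A × A // Good A N p} := by
  classical
  have b1 := card_bad_le A hN (fun p => (p.1 * p.2⁻¹, p.2)) (by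
    rintro ⟨a, b⟩ ⟨a', b'⟩ h
    have e2 : b = b' := congrArg Prod.snd h
    have e1 : a * b⁻¹ = a' * b'⁻¹ := congrArg Prod.fst h
    subst e2
    rw [mul_right_cancel e1])
  have b2 := card_bad_le A hN (fun p => (p.1 * p.1 * p.2, p.1)) (by
    rintro ⟨a, b⟩ ⟨a', b'⟩ h
    have e2 : a = a' := congrArg Prod.snd h
    have e1 : a * a * b = a' * a' * b' := congrArg Prod.fst h
    subst e2
    rw [mul_left_cancel e1])
  have b3 := card_bad_le A hN (fun p => (p.1 * (p.2 * p.2), p.2)) (by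
    rintro ⟨a, b⟩ ⟨a', b'⟩ h
    have e2 : b = b' := congrArg Prod.snd h
    have e1 : a * (b * b) = a' * (b' * b') := congrArg Prod.fst h
    subst e2
    rw [mul_right_cancel e1])
  simp only at b1 b2 b3
  have hcov : Nat.card (A × A) ≤ Nat.card {p : A × A // Good A N p} +
      (Nat.card {p : A × A // (p.1 * p.2⁻¹) ^ N = 1} + (Nat.card {p : A × A // (p.1 * p.1 * p.2) ^ N = 1} +
        Nat.card {p : A × A // (p.1 * (p.2 * p.2)) ^ N = 1})) := by
    rw [← Nat.card_sum, ← Nat.card_sum, ← Nat.card_sum]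
    refine Nat.card_le_card_of_injective (fun p : A × A =>
      if h1 : (p.1 * p.2⁻¹) ^ N = 1 then Sum.inr (Sum.inl ⟨p, h1⟩) else
      if h2 : (p.1 * p.1 * p.2) ^ N = 1 then Sum.inr (Sum.inr (Sum.inl ⟨p, h2⟩)) else
      if h3 : (p.1 * (p.2 * p.2)) ^ N = 1 then Sum.inr (Sum.inr (Sum.inr ⟨p, h3⟩)) else
      Sum.inl ⟨p, ?_, ?_, ?_⟩) ?_
    · intro h
      apply h1
      rw [mul_pow, inv_pow, h, mul_inv_cancel]
    · intro h
      apply h2
      rw [mul_assoc, mul_pow, h, inv_pow, inv_mul_cancel]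
    · intro h
      apply h3
      rw [← mul_assoc, mul_pow, h, inv_pow, mul_inv_cancel]
    · intro p q hpq
      simp only at hpq
      split_ifs at hpq with h1 h2 h3 h4 h5 h6 h7 h8 h9 h10 h11 h12 <;>
        first
        | exact congrArg Subtype.val (Sum.inl_injective hpq)
        | exact congrArg Subtype.val (Sum.inl_injective (Sum.inr_injective hpq))
        | exact congrArg Subtype.val (Sum.inl_injective (Sum.inr_injective (Sum.inr_injective hpq)))
        | exact congrArg Subtype.val (Sum.inr_injective (Sum.inr_injective (Sum.inr_injective hpq)))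
        | exact absurd hpq (by simp)
  rw [Nat.card_prod] at hcov
  have h5 : 6 * N * Nat.card A ≤ Nat.card A * Nat.card A := Nat.mul_le_mul_right _ hA
  have h6 : 6 * N * Nat.card A = 6 * (N * Nat.card A) := by ring
  omega

end

/-- the regular diagonal elements (with `N`-th powers still regular) -/
def Reg {F : Type*} [Field F] (N : ℕ) (X : GL (Fin 3) F) : Prop :=
  ∃ d : Fin 3 → F, (X : Matrix (Fin 3) (Fin 3) F) = diagonal d ∧ ∀ i j, i ≠ j → d i ^ N ≠ d j ^ N

theorem isDiag_of_comm {F : Type*} [Field F] {N : ℕ} {X : GL (Fin 3) F} (hX : Reg N X)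
    {Y : Matrix (Fin 3) (Fin 3) F} (h : Y * X = X * Y) : ∃ d, Y = diagonal d := by
  obtain ⟨d, hd, hreg⟩ := hX
  refine ⟨fun i => Y i i, ?_⟩
  ext i j
  by_cases hij : i = j
  · subst hij; rw [Matrix.diagonal_apply_eq]
  · rw [Matrix.diagonal_apply_ne _ hij]
    have h1 := congrFun (congrFun h i) j
    rw [hd, Matrix.mul_diagonal, Matrix.diagonal_mul] at h1
    have h2 : d i ≠ d j := fun h3 => hreg i j hij (by rw [h3])
    have h3 : (d i - d j) * Y i j = 0 := by linear_combination -h1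
    exact (mul_eq_zero.1 h3).resolve_left (sub_ne_zero.2 h2)

theorem root_of_diag {F : Type*} [Field F] (d : Fin 3 → F) (i : Fin 3) :
    (diagonal d : Matrix (Fin 3) (Fin 3) F).charpoly.eval (d i) = 0 := by
  rw [Matrix.eval_charpoly, Matrix.scalar_apply, Matrix.diagonal_sub, Matrix.det_diagonal]
  exact Finset.prod_eq_zero (Finset.mem_univ i) (sub_self _)

theorem arith_aux {e c g x : ℕ} (he : 0 < e) (hc : c ≤ 2 * e) (h : e * g ≤ 27 * c * x) : g ≤ 54 * x := by
  have h8 : e * g ≤ e * (54 * x) := by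
    calc e * g ≤ 27 * c * x := h
      _ ≤ 27 * (2 * e) * x := Nat.mul_le_mul_right _ (Nat.mul_le_mul_left _ hc)
      _ = e * (54 * x) := by ring
  exact Nat.le_of_mul_le_mul_left h8 he

/-- **Regular diagonal elements.** -/
theorem split3 {F : Type*} [Field F] [Fintype F] {G : Type*} [Group G] [Finite G] (φ : G →* GL (Fin 3) F)
    (hφ : Function.Injective φ) (A : Subgroup Fˣ) {N : ℕ} (hN : 0 < N) (hA : 6 * N ≤ Nat.card A)
    (h1 : ∀ a ∈ A, ∀ b ∈ A, ∃ g : G, ((φ g : GL (Fin 3) F) : Matrix (Fin 3) (Fin 3) F) =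
      diagonal ![(a : F), (b : F), (((a * b)⁻¹ : Fˣ) : F)])
    (h2 : ∀ g : G, ∀ d : Fin 3 → F, ((φ g : GL (Fin 3) F) : Matrix (Fin 3) (Fin 3) F) = diagonal d →
      ∃ a ∈ A, ∃ b ∈ A, d = ![(a : F), (b : F), (((a * b)⁻¹ : Fˣ) : F)]) :
    Nat.card G ≤ 54 * Nat.card {x : G // ∃ a, Reg N (φ a) ∧ IsConj a x} := by
  classical
  let E : Set G := {g | Reg N (φ g)}
  have hval : ∀ {a b : G}, ((φ a : GL (Fin 3) F) : Matrix (Fin 3) (Fin 3) F) * (φ b : GL (Fin 3) F) =
      (φ b : GL (Fin 3) F) * (φ a : GL (Fin 3) F) ↔ a * b = b * a := by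
    intro a b
    rw [← Units.val_mul, ← Units.val_mul, ← map_mul, ← map_mul]
    exact ⟨fun h => hφ (Units.ext h), fun h => by rw [h]⟩
  -- many regular elements
  have hE : Nat.card {p : A × A // Good A N p} ≤ Nat.card E := by
    have h3 : ∀ p : A × A, ∃ g : G, ((φ g : GL (Fin 3) F) : Matrix (Fin 3) (Fin 3) F) =
        diagonal ![((p.1 : Fˣ) : F), ((p.2 : Fˣ) : F), ((((p.1 : Fˣ) * p.2)⁻¹ : Fˣ) : F)] :=
      fun p => h1 _ p.1.2 _ p.2.2
    choose t ht using h3
    refine Nat.card_le_card_of_injective (fun p => (⟨t p.1, _, ht p.1, ?_⟩ : E)) ?_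
    · obtain ⟨⟨a, b⟩, g1, g2, g3⟩ := p
      simp only at g1 g2 g3
      have k1 : ((a : Fˣ) : F) ^ N ≠ ((b : Fˣ) : F) ^ N := by
        intro h
        apply g1
        apply Subtype.ext
        apply Units.ext
        simpa using h
      have k2 : ((a : Fˣ) : F) ^ N ≠ ((((a : Fˣ) * b)⁻¹ : Fˣ) : F) ^ N := by
        intro h
        apply g2
        apply Subtype.ext
        apply Units.ext
        simpa using h
      have k3 : ((b : Fˣ) : F) ^ N ≠ ((((a : Fˣ) * b)⁻¹ : Fˣ) : F) ^ N := by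
        intro h
        apply g3
        apply Subtype.ext
        apply Units.ext
        simpa using h
      intro i j hij
      fin_cases i <;> fin_cases j <;>
        first
        | exact absurd rfl hij
        | exact k1
        | exact k2
        | exact k3
        | exact k1.symm
        | exact k2.symm
        | exact k3.symm
    · rintro ⟨⟨a, b⟩, hp⟩ ⟨⟨a', b'⟩, hp'⟩ hpq
      have e1 : t (a, b) = t (a', b') := congrArg Subtype.val hpq
      have e2 := ht (a, b)
      rw [e1, ht (a', b')] at e2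
      have e3 := Matrix.diagonal_injective e2
      have e4 : ((a' : Fˣ) : F) = ((a : Fˣ) : F) := congrFun e3 0
      have e5 : ((b' : Fˣ) : F) = ((b : Fˣ) : F) := congrFun e3 1
      have e6 : a' = a := Subtype.ext (Units.ext e4)
      have e7 : b' = b := Subtype.ext (Units.ext e5)
      subst e6 e7
      rfl
  have hgood := card_good A hN hA
  have hA0 : 0 < Nat.card A := Nat.card_pos
  have hE0 : 0 < Nat.card E := by
    have : 0 < Nat.card A * Nat.card A := Nat.mul_pos hA0 hA0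
    omega
  obtain ⟨⟨a₀, ha₀⟩⟩ : Nonempty E := (Nat.card_pos_iff.1 hE0).1
  let C : Subgroup G := Subgroup.centralizer {a₀}
  have hC : ∀ {x : G}, x ∈ C ↔ x * a₀ = a₀ * x := by
    intro x
    rw [Subgroup.mem_centralizer_singleton_iff]
  -- `C` is the set of diagonal elements
  have hCd : ∀ {x : G}, x ∈ C ↔ ∃ d, ((φ x : GL (Fin 3) F) : Matrix (Fin 3) (Fin 3) F) = diagonal d := by
    intro x
    rw [hC]
    constructor
    · intro h
      exact isDiag_of_comm ha₀ (hval.2 h)
    · rintro ⟨d, hd⟩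
      obtain ⟨d', hd', -⟩ := ha₀
      apply hval.1
      rw [hd, hd', Matrix.diagonal_mul_diagonal, Matrix.diagonal_mul_diagonal]
      congr 1
      funext i
      exact mul_comm _ _
  have hCcard : Nat.card C ≤ Nat.card A * Nat.card A := by
    rw [← Nat.card_prod]
    have h3 : ∀ x : C, ∃ p : A × A, ((φ (x : G) : GL (Fin 3) F) : Matrix (Fin 3) (Fin 3) F) =
        diagonal ![((p.1 : Fˣ) : F), ((p.2 : Fˣ) : F), ((((p.1 : Fˣ) * p.2)⁻¹ : Fˣ) : F)] := by
      intro x
      obtain ⟨d, hd⟩ := hCd.1 x.2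
      obtain ⟨a, ha, b, hb, hab⟩ := h2 _ d hd
      exact ⟨(⟨a, ha⟩, ⟨b, hb⟩), by rw [hd, hab]⟩
    choose t ht using h3
    refine Nat.card_le_card_of_injective t ?_
    intro x y hxy
    apply Subtype.ext
    apply hφ
    apply Units.ext
    rw [ht x, ht y, hxy]
  have hk1 : ∀ a ∈ E, ∀ g : G, g * a = a * g → g ∈ C := by
    intro a ha g hg
    exact hCd.2 (isDiag_of_comm ha (hval.2 hg))
  have hk2 : ∀ a ∈ E, Nat.card {b : G // b ∈ E ∧ IsConj a b} ≤ 27 := by
    intro a ha
    let p := ((φ a : GL (Fin 3) F) : Matrix (Fin 3) (Fin 3) F).charpoly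
    have hp : p.Monic := Matrix.charpoly_monic _
    have hpd : p.natDegree = 3 := by rw [Matrix.charpoly_natDegree_eq_dim, Fintype.card_fin]
    have hroots : Nat.card p.roots.toFinset ≤ 3 := by
      rw [Nat.card_eq_fintype_card, Fintype.card_coe, ← hpd]
      exact (Multiset.toFinset_card_le _).trans (Polynomial.card_roots' p)
    have h4 : ∀ b : {b : G // b ∈ E ∧ IsConj a b}, ∃ d : Fin 3 → p.roots.toFinset,
        ((φ b.1 : GL (Fin 3) F) : Matrix (Fin 3) (Fin 3) F) = diagonal (fun i => (d i : F)) := by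
      rintro ⟨b, ⟨d, hd, -⟩, hab⟩
      have h3 : p = ((φ b : GL (Fin 3) F) : Matrix (Fin 3) (Fin 3) F).charpoly := charpoly_of_conj φ hab
      refine ⟨fun i => ⟨d i, ?_⟩, hd⟩
      rw [Multiset.mem_toFinset, Polynomial.mem_roots hp.ne_zero, Polynomial.IsRoot, h3, hd]
      exact root_of_diag d i
    choose t ht using h4
    have h5 : Nat.card {b : G // b ∈ E ∧ IsConj a b} ≤ Nat.card (Fin 3 → p.roots.toFinset) := by
      refine Nat.card_le_card_of_injective t ?_
      intro x y hxy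
      apply Subtype.ext
      apply hφ
      apply Units.ext
      rw [ht x, ht y, hxy]
    refine h5.trans ?_
    have h6 : Nat.card (Fin 3 → p.roots.toFinset) = Nat.card p.roots.toFinset ^ 3 := by
      rw [Nat.card_fun, Nat.card_eq_fintype_card (α := Fin 3), Fintype.card_fin]
    rw [h6]
    exact (Nat.pow_le_pow_left hroots 3).trans (le_of_eq (by norm_num))
  have h5 := torus_count C E 27 hk1 hk2
  have h6 : Nat.card C ≤ 2 * Nat.card E := by omega
  have h7 : Nat.card {x : G // ∃ a ∈ E, IsConj a x} = Nat.card {x : G // ∃ a, Reg N (φ a) ∧ IsConj a x} := rfl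
  rw [h7] at h5
  exact arith_aux hE0 h6 h5

end Cfsg.Agent.H716.Dg
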