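import Cfsg.Agent.H716.Dg.Sing
import Cfsg.Agent.H716.Dg.Split
import Cfsg.Agent.H907.MxJ
import Cfsg.Agent.H900.SU4.Base

/-!
# S5734: subgroups of `GL₃(F)` without regular diagonalisable elements (helper716, task 2836)
-/

set_option autoImplicit false

namespace Cfsg.Agent.H716.Dg

open Matrix Cfsg Cfsg.Geo Cfsg.Agent.H851.Dg Cfsg.Agent.H728.DghpNum

section

variable {F : Type*} [Field F]

theorem pow_conj_diag {X P : GL (Fin 3) F} {d : Fin 3 → F}
    (h : ((P * X * P⁻¹ : GL (Fin 3) F) : Matrix (Fin 3) (Fin 3) F) = diagonal d) (k : ℕ) :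
    ((P * X ^ k * P⁻¹ : GL (Fin 3) F) : Matrix (Fin 3) (Fin 3) F) = diagonal (fun i => d i ^ k) := by
  have h1 : P * X ^ k * P⁻¹ = (P * X * P⁻¹) ^ k := conj_pow.symm
  rw [h1, Units.val_pow_eq_pow_val, h, Matrix.diagonal_pow]
  rfl

theorem conj_scalar {X P : GL (Fin 3) F} (hX : X ∈ scalars (Fin 3) F) : P * X * P⁻¹ = X := by
  obtain ⟨c, hc⟩ := (mem_scalars_iff _).1 hX
  have h1 : P * X = X * P := by
    apply Units.ext
    rw [Units.val_mul, Units.val_mul, hc, Matrix.mul_smul, Matrix.smul_mul, Matrix.mul_one, Matrix.one_mul]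
  rw [h1, mul_inv_cancel_right]

/-- an element with a scalar power is not regular -/
theorem not_reg_of_scalar {N k : ℕ} (hk : k ∣ N) {X P : GL (Fin 3) F} (hX : X ^ k ∈ scalars (Fin 3) F) :
    ¬ Reg N (P * X * P⁻¹) := by
  rintro ⟨d, hd, hreg⟩
  obtain ⟨l, rfl⟩ := hk
  have h1 : X ^ (k * l) ∈ scalars (Fin 3) F := by
    rw [pow_mul]
    exact Subgroup.pow_mem _ hX _
  have h2 := pow_conj_diag hd (k * l)
  rw [conj_scalar h1] at h2
  obtain ⟨c, hc⟩ := (mem_scalars_iff _).1 h1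
  rw [hc] at h2
  apply hreg 0 1 (by decide)
  have e0 := congrFun (congrFun h2 0) 0
  have e1 := congrFun (congrFun h2 1) 1
  rw [Matrix.diagonal_apply_eq] at e0 e1
  rw [← e0, ← e1]
  simp

theorem not_reg_residual {N k : ℕ} (hk : k ∣ N) {H P₀ : Subgroup (GL (Fin 3) F)} (h : IsResidualCore H P₀)
    (hc : Nat.card (MulAut (P₀ ⧸ (scalars (Fin 3) F).subgroupOf P₀)) ∣ k)
    {X P : GL (Fin 3) F} (hX : X ∈ H) : ¬ Reg N (P * X * P⁻¹) := by
  refine not_reg_of_scalar hk ?_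
  obtain ⟨φ, hφ⟩ := Cfsg.Agent.H900.SU4.exists_core_inj h
  have h1 : (QuotientGroup.mk' ((scalars (Fin 3) F).subgroupOf H) ⟨X, hX⟩) ^ k = 1 := by
    apply hφ
    rw [map_pow, map_one]
    obtain ⟨l, rfl⟩ := hc
    rw [pow_mul, pow_card_eq_one', one_pow]
  rw [← map_pow, QuotientGroup.mk'_apply, QuotientGroup.eq_one_iff, Subgroup.mem_subgroupOf] at h1
  exact h1

end

theorem not_reg_field {F : Type*} [Field F] [Fintype F] {N : ℕ} (hN : 3 ∣ N)
    {K : Subalgebra F (Matrix (Fin 3) (Fin 3) F)} (hK : IsFieldSubalgebra 3 K) {X P : GL (Fin 3) F}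
    (hX : X ∈ subalgebraNormalizer K) : ¬ Reg N (P * X * P⁻¹) := by
  intro hr
  obtain ⟨d, hd, hreg⟩ := id hr
  refine not_reg_of_scalar hN (X := X) (P := P) ?_ hr
  have hd0 : ∀ i, d i ≠ 0 := by
    intro i h0
    have h1 : ((P * X * P⁻¹ : GL (Fin 3) F) : Matrix (Fin 3) (Fin 3) F).det = 0 := by
      rw [hd, Matrix.det_diagonal]
      exact Finset.prod_eq_zero (Finset.mem_univ i) h0
    exact (Matrix.isUnits_det_units (P * X * P⁻¹)).ne_zero h1
  have h1 : (X ^ 3) ^ (Fintype.card F - 1) = 1 := by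
    have h2 := pow_conj_diag hd (3 * (Fintype.card F - 1))
    have h3 : P * X ^ (3 * (Fintype.card F - 1)) * P⁻¹ = 1 := by
      apply Units.ext
      rw [h2, Units.val_one, ← Matrix.diagonal_one]
      congr 1
      funext i
      rw [mul_comm, pow_mul, FiniteField.pow_card_sub_one_eq_one _ (hd0 i), one_pow]
    have h4 : X ^ (3 * (Fintype.card F - 1)) = 1 := by
      have h5 : P * X ^ (3 * (Fintype.card F - 1)) = P := by
        rw [mul_inv_eq_one] at h3
        exact h3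
      exact mul_left_cancel (a := P) (by rw [h5, mul_one])
    rw [← pow_mul, h4]
  obtain ⟨c, hc⟩ := Cfsg.Agent.H907.Mx.cube_scalar hK hX h1
  rw [mem_scalars_iff]
  have hc0 : c ≠ 0 := by
    rintro rfl
    rw [zero_smul] at hc
    have := (Matrix.isUnits_det_units (X ^ 3)).ne_zero
    rw [hc] at this
    exact this Matrix.det_zero
  exact ⟨Units.mk0 c hc0, hc⟩

/-- the exponent: `|Aut(L₃(2))| = 336` and `|Aut(A₆)| = 1440` divide it, and `3` -/
def NN : ℕ := 10080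

theorem c336 : 336 ∣ NN := by decide
theorem c1440 : 1440 ∣ NN := by decide
theorem c3 : 3 ∣ NN := by decide

/-- the outcome for a maximal subgroup -/
def OutA {F : Type*} [Field F] [Fintype F] (c : ℕ) (H : Subgroup (GL (Fin 3) F)) : Prop :=
  (∃ u, Ppd (Fintype.card F) 3 u ∧ u ∣ c ∧ ∀ x ∈ H, orderOf x ≠ u) ∨ ∀ x ∈ H, ∀ P : GL (Fin 3) F, ¬ Reg NN (P * x * P⁻¹)

/-- the bound for a group with outcome `OutA` -/
theorem nd_of_outA {F : Type*} [Field F] [Fintype F] {G T : Type*} [Group G] [Finite G] [Group T] (φ : G →* GL (Fin 3) F)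
    (hφ : Function.Injective φ) (π : G →* T) (hπ : Function.Surjective π) (A : Subgroup Fˣ) (hA : 6 * NN ≤ Nat.card A)
    (h1 : ∀ a ∈ A, ∀ b ∈ A, ∃ g : G, ((φ g : GL (Fin 3) F) : Matrix (Fin 3) (Fin 3) F) =
      diagonal ![(a : F), (b : F), (((a * b)⁻¹ : Fˣ) : F)])
    (h2 : ∀ g : G, ∀ d : Fin 3 → F, ((φ g : GL (Fin 3) F) : Matrix (Fin 3) (Fin 3) F) = diagonal d →
      ∃ a ∈ A, ∃ b ∈ A, d = ![(a : F), (b : F), (((a * b)⁻¹ : Fˣ) : F)])
    {M : Subgroup T} (hM : OutA (Nat.card G) ((M.comap π).map φ)) :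
    (1 / 54 : ℝ) * (Nat.card T : ℝ) ≤ nd M := by
  refine of_comap π hπ M ?_
  rcases hM with ⟨u, hP, hu, h⟩ | h
  · have h3 := sing3 φ hφ hP hu
    have h4 : ¬ u ∣ Nat.card (M.comap π) := by
      intro hd
      have : Fact u.Prime := ⟨hP.prime⟩
      obtain ⟨x, hx⟩ := exists_prime_orderOf_dvd_card' (G := M.comap π) u hd
      refine h (φ x) ⟨x, x.2, rfl⟩ ?_
      rw [orderOf_injective φ hφ, Subgroup.orderOf_coe, hx]
    have h5 := singular_le_nd h4
    have h6 : Nat.card G ≤ 54 * nd (M.comap π) := by omega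
    have h7 : (Nat.card G : ℝ) ≤ 54 * nd (M.comap π) := by exact_mod_cast h6
    linarith
  · have h3 := split3 φ hφ A (N := NN) (by unfold NN; norm_num) hA h1 h2
    have h4 : Nat.card {x : G // ∃ a, Reg NN (φ a) ∧ IsConj a x} ≤ nd (M.comap π) := by
      refine card_le_nd (s := {x : G | ∃ a, Reg NN (φ a) ∧ IsConj a x}) ?_
      rintro x ⟨a, ha, hax⟩ g hg
      obtain ⟨y, hy⟩ := isConj_iff.1 hax
      refine h (φ (g * x * g⁻¹)) ⟨_, hg, rfl⟩ (φ (g * y)⁻¹) ?_
      have h5 : φ (g * y)⁻¹ * φ (g * x * g⁻¹) * (φ (g * y)⁻¹)⁻¹ = φ a := by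
        rw [← map_mul, ← map_inv, ← map_mul]
        congr 1
        rw [← hy]
        group
      rw [h5]
      exact ha
    have h6 : Nat.card G ≤ 54 * nd (M.comap π) := h3.trans (Nat.mul_le_mul_left _ h4)
    have h7 : (Nat.card G : ℝ) ≤ 54 * nd (M.comap π) := by exact_mod_cast h6
    linarith

theorem nd_small {T : Type*} [Group T] [Finite T] {B : ℕ} (hB : Nat.card T ≤ B) {K : Subgroup T} (hK : IsCoatom K) :
    (1 / B : ℝ) * (Nat.card T : ℝ) ≤ nd K := by
  have h1 : (1 : ℝ) ≤ nd K := by exact_mod_cast one_le_nd hK.1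
  have h2 : (Nat.card T : ℝ) ≤ B := by exact_mod_cast hB
  have h3 : (0 : ℝ) < Nat.card T := by exact_mod_cast Nat.card_pos
  have h4 : (0 : ℝ) < B := lt_of_lt_of_le h3 h2
  have h5 : (1 / B : ℝ) * (Nat.card T : ℝ) ≤ 1 := by
    rw [one_div, inv_mul_le_iff₀ h4, mul_one]
    exact h2
  linarith

theorem card_sl_le {F : Type*} [Field F] [Fintype F] : Nat.card (Matrix.SpecialLinearGroup (Fin 3) F) ≤ Fintype.card F ^ 9 := by
  have h1 : Nat.card (Matrix.SpecialLinearGroup (Fin 3) F) ≤ Nat.card (Matrix (Fin 3) (Fin 3) F) :=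
    Nat.card_le_card_of_injective (fun x => (x : Matrix (Fin 3) (Fin 3) F)) Subtype.val_injective
  have h2 : Nat.card (Matrix (Fin 3) (Fin 3) F) = Fintype.card F ^ 9 := by
    have h3 : Nat.card (Matrix (Fin 3) (Fin 3) F) = Nat.card (Fin 3 → Fin 3 → F) := rfl
    rw [h3, Nat.card_eq_fintype_card, Fintype.card_fun, Fintype.card_fun, Fintype.card_fin, ← pow_mul]
  omega

/-- the bound on the orders of the small groups -/
def BB : ℕ := 61000 ^ 18

theorem BB_le {q : ℕ} (h : q ≤ 6 * NN) : q ^ 18 ≤ BB :=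
  Nat.pow_le_pow_left (h.trans (by decide)) 18

theorem BB_large : (54 : ℝ) ≤ BB := by
  have h : 54 ≤ BB := by
    unfold BB
    calc 54 ≤ 61000 ^ 1 := by norm_num
      _ ≤ 61000 ^ 18 := Nat.pow_le_pow_right (by norm_num) (by norm_num)
  exact_mod_cast h

theorem of_large {T : Type*} [Group T] {K : Subgroup T} (h : (1 / 54 : ℝ) * (Nat.card T : ℝ) ≤ nd K) :
    (1 / BB : ℝ) * (Nat.card T : ℝ) ≤ nd K := by
  refine le_trans (mul_le_mul_of_nonneg_right ?_ (Nat.cast_nonneg _)) h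
  exact one_div_le_one_div_of_le (by norm_num) BB_large

end Cfsg.Agent.H716.Dg
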