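import Cfsg.Agent.H304.PpdClass

/-!
# S5734: primes `u` with `q₀` of order three modulo `u` and unitary groups over `F_{q₀²}` (helper716, task 2836)

(after helper304's `odd_of_gram`, `odd_of_unitary`)
-/

set_option autoImplicit false
set_option linter.style.haveILetI false

namespace Cfsg.Agent.H716.Dg

open Matrix Cfsg Cfsg.Geo Cfsg.Agent.H728.DghpNum Cfsg.Agent.H304.Ppd

variable {ι : Type} [Fintype ι] [DecidableEq ι] {F : Type*} [Field F] [Fintype F]

theorem ord_sq3 {q₀ u : ℕ} (h : orderOf (q₀ : ZMod u) = 3) : orderOf ((q₀ ^ 2 : ℕ) : ZMod u) = 3 := by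
  rw [Nat.cast_pow, orderOf_pow' _ two_ne_zero, h]
  rfl

/-- **unitary forms**: `q₀` does not have order three modulo the order of an isometry. -/
theorem false_of_gram {u p k : ℕ} [Fact p.Prime] [CharP F p] (hF : Fintype.card F = (p ^ k) ^ 2) (hu : u.Prime)
    (hu2 : u ≠ 2) (hord₀ : orderOf ((p ^ k : ℕ) : ZMod u) = 3)
    (hqu : ¬ u ∣ Fintype.card F) (hn : Fintype.card ι < 6) {x : GL ι F} (hx : orderOf x = u)
    {G : Matrix ι ι F} (hG : G.det ≠ 0)
    (h : (x : Matrix ι ι F)ᵀ * G * (x : Matrix ι ι F).map (fun a => a ^ p ^ k) = G) : False := by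
  haveI : Fact u.Prime := ⟨hu⟩
  set E := AlgebraicClosure F with hE
  haveI : CharP E p := charP_of_injective_algebraMap (algebraMap F E).injective p
  haveI : ExpChar E p := ExpChar.prime Fact.out
  haveI : ExpChar F p := ExpChar.prime Fact.out
  have hqk : ¬ u ∣ p ^ k := fun h1 => hqu (by rw [hF]; exact dvd_pow h1 two_ne_zero)
  have hord : orderOf ((Fintype.card F : ℕ) : ZMod u) = 3 := by
    rw [hF]
    exact ord_sq3 hord₀
  have hmu : ¬ u ∣ (u - 1) * p ^ k := by
    intro h1
    rcases hu.dvd_mul.mp h1 with h2 | h2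
    · exact absurd (Nat.le_of_dvd (by have := hu.two_le; omega) h2) (by have := hu.two_le; omega)
    · exact hqk h2
  set B : Matrix ι ι F := (x : Matrix ι ι F).map (fun a => a ^ p ^ k) with hB
  have hfr : ∀ M : Matrix ι ι F, M.map (fun a => a ^ p ^ k) = M.map (iterateFrobenius F p k) := by
    intro M
    ext i j
    simp [iterateFrobenius_def]
  set B' : Matrix ι ι F := ((x⁻¹ : GL ι F) : Matrix ι ι F).map (fun a => a ^ p ^ k) with hB'
  have hBB : B' * B = 1 := by
    rw [hB, hB', hfr, hfr, ← Matrix.map_mul, ← Units.val_mul, inv_mul_cancel, Units.val_one,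
      Matrix.map_one _ (map_zero _) (map_one _)]
  have hBB' : B * B' = 1 := by
    rw [hB, hB', hfr, hfr, ← Matrix.map_mul, ← Units.val_mul, mul_inv_cancel, Units.val_one,
      Matrix.map_one _ (map_zero _) (map_one _)]
  obtain ⟨i, hi⟩ := exists_exponent hu hord hqu (by omega) hx hmu (by
    intro l hlu hl
    have h1 : Ev (AlgebraicClosure F) B (l ^ p ^ k) := by
      have := hl.map (iterateFrobenius (AlgebraicClosure F) p k) (B := B) (fun i j => by
        rw [iterateFrobenius_def, hB, Matrix.map_apply, map_pow])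
      rwa [iterateFrobenius_def] at this
    obtain ⟨h2, hl0⟩ := Ev.inv hBB h1
    have h3 : (x : Matrix ι ι F)ᵀ * G = G * B' := by
      calc (x : Matrix ι ι F)ᵀ * G = (x : Matrix ι ι F)ᵀ * G * (B * B') := by
            rw [hBB', mul_one]
        _ = ((x : Matrix ι ι F)ᵀ * G * B) * B' := by
            simp only [Matrix.mul_assoc]
        _ = _ := by rw [h]
    have h5 := ev_transpose.mp (Ev.conj hG h3 h2)
    have h6 : l ^ ((u - 1) * p ^ k) = (l ^ p ^ k)⁻¹ := by
      have hl1 : l ^ (u - 1) = l⁻¹ := by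
        apply eq_inv_of_mul_eq_one_left
        rw [← pow_succ, Nat.sub_add_cancel hu.one_lt.le, hlu]
      rw [pow_mul, hl1, inv_pow]
    rw [h6]
    exact h5)
  rw [Nat.cast_mul, Nat.cast_sub hu.one_lt.le, ZMod.natCast_self, zero_sub, Nat.cast_one, neg_one_mul] at hi
  have h7 : (-((p ^ k : ℕ) : ZMod u)) ^ 3 = (((Fintype.card F : ℕ) : ZMod u) ^ i) ^ 3 := by rw [hi]
  have h8 : (((p ^ k : ℕ) : ZMod u)) ^ 3 = 1 := by rw [← hord₀]; exact pow_orderOf_eq_one _
  have h9 : (((Fintype.card F : ℕ) : ZMod u)) ^ 3 = 1 := by rw [← hord]; exact pow_orderOf_eq_one _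
  have h10 : (-((p ^ k : ℕ) : ZMod u)) ^ 3 = -1 := by
    rw [Odd.neg_pow (by decide), h8]
  rw [h10, ← pow_mul, mul_comm, pow_mul, h9, one_pow] at h7
  haveI : Fact (2 < u) := ⟨by have := hu.two_le; omega⟩
  exact ZMod.neg_one_ne_one h7

/-- class 8, unitary forms -/
theorem false_of_unitary [Nonempty ι] {u p k : ℕ} [Fact p.Prime] [CharP F p] (hF : Fintype.card F = (p ^ k) ^ 2)
    (hP : Ppd (p ^ k) 3 u) (hn : Fintype.card ι < 6) {x : GL ι F} (hx : orderOf x = u) {σ : F ≃+* F}
    (hσ : ∀ a, σ a = a ^ p ^ k) {f : (ι → F) → (ι → F) → F} (hf : IsUnitaryForm σ f) (hxf : x ∈ similarityGroup f) :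
    False := by
  have hPq : Ppd (Fintype.card F) 3 u := by
    refine ⟨hP.prime, ?_, ?_⟩
    · rw [hF]; exact ord_sq3 hP.ord
    · rw [hF]
      exact fun h => hP.ndvd (hP.prime.dvd_of_dvd_pow h)
  obtain ⟨c, hc⟩ := hxf
  have hc1 := multiplier_eq_one hPq (by norm_num) hx (exists_ne_zero hf.nondegenerate) hc
  have hs := H914.IsSesq.of_unitary hf
  have h1 := H914.fixes_gram hs (M := (x : Matrix ι ι F)) (fun a b => by rw [hc, hc1, Units.val_one, one_mul])
  have h2 : (x : Matrix ι ι F).map σ = (x : Matrix ι ι F).map (fun a => a ^ p ^ k) := by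
    ext i j
    exact hσ _
  rw [h2] at h1
  have hlt := hP.lt
  exact false_of_gram hF hP.prime (by omega) hP.ord hPq.ndvd hn hx (H914.det_gram_ne_zero hs hf.nondegenerate) h1

end Cfsg.Agent.H716.Dg
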