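import Cfsg.Agent.H716.Dg.Common
import Cfsg.Agent.H716.Dg.Unit
import Cfsg.Agent.H855.Dg.GeoPsl
import Cfsg.Agent.H304.Psl3

/-!
# S5734: the row `PSL₃(q)` (helper716, task 2836)
-/

set_option autoImplicit false
set_option linter.style.haveILetI false

namespace Cfsg.Agent.H716.Dg

open Matrix Cfsg Cfsg.Geo Cfsg.Agent.H851.Dg Cfsg.Agent.H728.DghpNum Cfsg.Agent.H304.Ppd Cfsg.Agent.H304.PslT
  Cfsg.Agent.H251.GeoCard

variable {F : Type*} [Field F] [Fintype F]

theorem dvd_iff' {q e u : ℕ} (hP : Ppd q e u) {m : ℕ} (h : Div u q m) : e ≤ m := by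
  obtain ⟨i, h1, h2, h3⟩ := h
  have := Nat.le_of_dvd h1 ((hP.dvd_iff i).mp h3)
  omega

theorem exists_ppd3 : ∃ u, Ppd (Fintype.card F) 3 u :=
  exists_ppd Fintype.one_lt_card le_rfl (by norm_num)

omit [Fintype F] in
theorem ne_of_not_dvd [Finite F] {H : Subgroup (GL (Fin 3) F)} {u : ℕ} (h : ¬ u ∣ Nat.card H) : ∀ x ∈ H, orderOf x ≠ u := by
  intro x hx hxu
  apply h
  rw [← hxu, ← Subgroup.orderOf_mk x hx]
  exact _root_.orderOf_dvd_natCard _

/-- class 1 -/
theorem a_class1 {H : Subgroup (GL (Fin 3) F)} {W : Submodule F (Fin 3 → F)} (hW0 : W ≠ ⊥) (hW1 : W ≠ ⊤)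
    (hM : H ≤ subspaceStabilizer W) {u : ℕ} (hP : Ppd (Fintype.card F) 3 u) : ∀ x ∈ H, orderOf x ≠ u := by
  have h1 : 0 < Module.finrank F W := Nat.pos_of_ne_zero fun h => hW0 (Submodule.finrank_eq_zero.mp h)
  have h2 : Module.finrank F W < 3 := by
    have := Submodule.finrank_lt hW1
    rwa [Module.finrank_fintype_fun_eq_card, Fintype.card_fin] at this
  intro x hx hxu
  rcases le_finrank_of_mem_stabilizer hP hxu (mem_of_subspaceStabilizer (hM hx)) with h4 | h4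
  · omega
  · rw [Fintype.card_fin] at h4; omega

/-- class 2 -/
theorem a_class2 {H : Subgroup (GL (Fin 3) F)} {t m : ℕ} {D : Fin t → Submodule F (Fin 3 → F)} (htm : t * m = 3)
    (hD : IsMDecomposition m D) (hM : H ≤ decompositionStabilizer D) {u : ℕ} (hP : Ppd (Fintype.card F) 3 u) :
    ∀ x ∈ H, orderOf x ≠ u := by
  refine ne_of_not_dvd fun hd => ?_
  have hd' := hd.trans (Subgroup.card_dvd_of_le hM)
  have ht := hD.two_le
  have hm := hD.pos
  have hlt := hP.lt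
  have hF : ¬ u ∣ Nat.card F := by rw [Nat.card_eq_fintype_card]; exact hP.ndvd
  rcases decomp hD hP.prime hF hd' with h5 | h5
  · have : t ≤ 3 := by rw [← htm]; exact Nat.le_mul_of_pos_right t hm
    omega
  · rw [Nat.card_eq_fintype_card] at h5
    have h6 := dvd_iff' hP h5
    have : 2 * m ≤ 3 := by rw [← htm]; exact Nat.mul_le_mul_right m ht
    omega

/-- class 5 -/
theorem a_class5 {H : Subgroup (GL (Fin 3) F)} (hbig : 4 < Fintype.card F)
    {F₀ : Subfield F} {r : ℕ} {P : GL (Fin 3) F} (hr : r.Prime) (hF₀ : Fintype.card F = Nat.card F₀ ^ r)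
    (hM : H ≤ subfieldSubgroup F₀ P) : ∃ u, Ppd (Fintype.card F) 3 u ∧ ∀ x ∈ H, orderOf x ≠ u := by
  have hq0 : 2 ≤ Nat.card F₀ := Finite.one_lt_card
  have hr2 := hr.two_le
  obtain ⟨u, hu⟩ := exists_ppd (q := Nat.card F₀) (e := r * 3) hq0 (by omega) (by
    rintro ⟨h1, h2⟩
    have h3 : r = 2 := by omega
    rw [h1, h3] at hF₀
    norm_num at hF₀
    omega)
  have hP : Ppd (Fintype.card F) 3 u := by
    have := hu.pow r hr.ne_zero
    rw [← hF₀, Nat.gcd_comm, Nat.gcd_mul_right_right, Nat.mul_div_cancel_left _ hr.pos] at this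
    exact this
  refine ⟨u, hP, ne_of_not_dvd fun hd => ?_⟩
  have hd' := hd.trans (Subgroup.card_dvd_of_le hM)
  have hF : ¬ u ∣ Nat.card F := by rw [Nat.card_eq_fintype_card]; exact hP.ndvd
  rcases subfield hP.prime hF hd' with h1 | h1
  · rw [Nat.card_eq_fintype_card] at h1
    have := (hP.dvd_iff 1).mp (by rwa [pow_one])
    exact absurd (Nat.le_of_dvd one_pos this) (by omega)
  · have h2 := dvd_iff' hu h1
    rw [Fintype.card_fin] at h2
    omega

/-- class 6 -/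
theorem a_class6 {H : Subgroup (GL (Fin 3) F)} {r k : ℕ} {R : Subgroup (GL (Fin 3) F)}
    (hR : IsSymplecticTypeGroup r R) (habs : ActsAbsolutelyIrreducibly (matrixSet R)) (hro : Odd r)
    (hk : 1 ≤ k) (hnk : 3 = r ^ k) (hZ : Nat.card (Subgroup.center R) = r) (hc : Nat.card R = r ^ (1 + 2 * k))
    (hM : H ≤ subgroupNormalizer R) {u : ℕ} (hP : Ppd (Fintype.card F) 3 u) : ∀ x ∈ H, orderOf x ≠ u := by
  refine ne_of_not_dvd fun hd => ?_
  have hd' := hd.trans (Subgroup.card_dvd_of_le hM)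
  have hlt := hP.lt
  rcases symplecticType hR habs (Or.inl ⟨hro, hZ, hc⟩) hk hP.prime hd' with h1 | h1 | h1
  · have : r ≤ r ^ k := Nat.le_self_pow (by omega) r
    omega
  · rw [Nat.card_eq_fintype_card] at h1
    have := (hP.dvd_iff 1).mp (by rwa [pow_one])
    exact absurd (Nat.le_of_dvd one_pos this) (by omega)
  · rw [← hnk] at h1
    have h2 : u = 4 := by omega
    have := hP.prime
    rw [h2] at this
    revert this
    norm_num

/-- class 8, quadratic forms -/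
theorem a_class8_quad {H : Subgroup (GL (Fin 3) F)} {Q : (Fin 3 → F) → F} (hQ : IsNondegenerateQuadraticForm Q)
    (hM : H ≤ quadSimilarityGroup Q) {u : ℕ} (hP : Ppd (Fintype.card F) 3 u) : ∀ x ∈ H, orderOf x ≠ u := by
  intro x hx hxu
  have h1 := even_of_quadratic hP (by omega) (by rw [Fintype.card_fin]; omega) hxu hQ (hM hx)
  revert h1
  decide

/-- class 8, unitary forms -/
theorem a_class8_unit {H : Subgroup (GL (Fin 3) F)} {σ : F ≃+* F} {f : (Fin 3 → F) → (Fin 3 → F) → F}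
    (hf : IsUnitaryForm σ f) (hM : H ≤ similarityGroup f) :
    ∃ u, Ppd (Fintype.card F) 3 u ∧ ∀ x ∈ H, orderOf x ≠ u := by
  obtain ⟨p, k, hp, hpF, hF, hσ⟩ := exists_frobenius hf.ne_refl hf.involutive
  haveI : Fact p.Prime := ⟨hp⟩
  have hq0 : 2 ≤ p ^ k := by
    have h1 : 1 < Fintype.card F := Fintype.one_lt_card
    rcases Nat.eq_zero_or_pos k with h | h
    · rw [hF, h] at h1; norm_num at h1
    · exact hp.two_le.trans (Nat.le_self_pow (by omega) p)
  obtain ⟨u, hP⟩ := exists_ppd (q := p ^ k) (e := 3) hq0 le_rfl (by norm_num)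
  refine ⟨u, ⟨hP.prime, ?_, ?_⟩, ?_⟩
  · rw [hF]; exact ord_sq3 hP.ord
  · rw [hF]; exact fun h => hP.ndvd (hP.prime.dvd_of_dvd_pow h)
  · intro x hx hxu
    exact false_of_unitary hF hP (by rw [Fintype.card_fin]; norm_num) hxu hσ hf (hM hx)

theorem dvd_card_sl {u : ℕ} (hP : Ppd (Fintype.card F) 3 u) : u ∣ Nat.card (Matrix.SpecialLinearGroup (Fin 3) F) := by
  have h1 := dvd_card (n := 3) (F := F) (e := 3) (by norm_num) le_rfl hP
  exact h1.trans (Subgroup.card_quotient_dvd_card _)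

/-- **maximal subgroups of `SL₃(q)`** -/
theorem outA_sl (hbig : 4 < Fintype.card F) {M : Subgroup (Matrix.ProjectiveSpecialLinearGroup (Fin 3) F)}
    (hM : IsCoatom M) : OutA (Nat.card (Matrix.SpecialLinearGroup (Fin 3) F)) (pre M) := by
  obtain ⟨u₀, hu₀⟩ := exists_ppd3 (F := F)
  rcases H915.sl_cases le_rfl (isMaximalIn_pre hM) with ⟨W, h0, h1, h⟩ | ⟨t, m, D, htm, hD, -, -, h⟩ |
      ⟨r, K, hr, hrn, hK, h⟩ | ⟨n₁, n₂, e, P, h1, h2, h3, -, h⟩ | ⟨F₀, r, P, hr, hF, h⟩ |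
      ⟨r, k, p, e, R, hR, -, hro, -, hk, hnk, -, -, hZ, hc, h⟩ | ⟨k, R, hR, hnk, -, -, hZ, hc, h⟩ |
      ⟨m, t, e, P, hm, ht, hmt, h⟩ | ⟨f, hf, hne, h4, h⟩ | ⟨σ, f, hf, h⟩ | ⟨-, Q, hQ, h⟩ | hres
  · exact Or.inl ⟨u₀, hu₀, dvd_card_sl hu₀, a_class1 h0 h1 (h.le.trans inf_le_left) hu₀⟩
  · exact Or.inl ⟨u₀, hu₀, dvd_card_sl hu₀, a_class2 htm hD (h.le.trans inf_le_left) hu₀⟩
  · have hr3 : r = 3 := (Nat.prime_dvd_prime_iff_eq hr Nat.prime_three).1 hrn
    subst hr3
    refine Or.inr fun x hx P => not_reg_field c3 hK ?_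
    rw [h] at hx
    exact hx.1
  · exfalso
    have h5 : 2 * 3 ≤ n₁ * n₂ := Nat.mul_le_mul h1 (by omega)
    omega
  · obtain ⟨u, hu, h1⟩ := a_class5 hbig hr hF (h.le.trans inf_le_left)
    exact Or.inl ⟨u, hu, dvd_card_sl hu, h1⟩
  · exact Or.inl ⟨u₀, hu₀, dvd_card_sl hu₀, a_class6 hR.symplecticType hR.absIrred hro hk hnk hZ hc (h.le.trans inf_le_left) hu₀⟩
  · exfalso
    rcases k with _ | _ | k
    · norm_num at hnk
    · norm_num at hnk
    · have h5 : 2 ^ 2 ≤ 2 ^ (k + 1 + 1) := Nat.pow_le_pow_right (by norm_num) (by omega)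
      omega
  · exfalso
    have h5 : m ^ 2 ≤ m ^ t := Nat.pow_le_pow_right (by omega) ht
    have h6 : 3 ^ 2 ≤ m ^ 2 := Nat.pow_le_pow_left hm 2
    omega
  · omega
  · obtain ⟨u, hu, h1⟩ := a_class8_unit hf (h.le.trans inf_le_left)
    exact Or.inl ⟨u, hu, dvd_card_sl hu, h1⟩
  · exact Or.inl ⟨u₀, hu₀, dvd_card_sl hu₀, a_class8_quad hQ (h.le.trans inf_le_left) hu₀⟩
  · obtain ⟨P, p, hcore, hp, hchar, hcases⟩ := Cfsg.Agent.S5776.result (pre M) (isMaximalIn_pre hM) hres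
    rcases hcases with ⟨⟨e⟩, -⟩ | ⟨⟨e⟩, -⟩
    · refine Or.inr fun x hx P => not_reg_residual c336 hcore ?_ hx
      rw [Nat.card_congr (MulAut.congr e).toEquiv, Cfsg.Agent.H304.Psl3.card_mulAut_L32]
    · refine Or.inr fun x hx P => not_reg_residual c1440 hcore ?_ hx
      rw [Nat.card_congr (MulAut.congr e).toEquiv]
      exact H753.ResCard.card_mulAut_A6

/-- `PSL₃(q)`, `q` large -/
theorem psl3_large (hbig : 6 * NN < Fintype.card F) {M : Subgroup (Matrix.ProjectiveSpecialLinearGroup (Fin 3) F)}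
    (hM : IsCoatom M) : (1 / 54 : ℝ) * (Nat.card (Matrix.ProjectiveSpecialLinearGroup (Fin 3) F) : ℝ) ≤ nd M := by
  have hNN : NN = 10080 := rfl
  refine nd_of_outA (Matrix.SpecialLinearGroup.toGL (n := Fin 3) (R := F)) toGL_injective (pr 3 F)
    (QuotientGroup.mk'_surjective _) ⊤ ?_ ?_ ?_ (outA_sl (by omega) hM)
  · rw [Subgroup.card_top, Nat.card_units, Nat.card_eq_fintype_card]
    omega
  · intro a _ b _
    refine ⟨⟨diagonal ![(a : F), (b : F), (((a * b)⁻¹ : Fˣ) : F)], ?_⟩, rfl⟩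
    rw [Matrix.det_diagonal, Fin.prod_univ_three]
    show (a : F) * b * (((a * b)⁻¹ : Fˣ) : F) = 1
    rw [← Units.val_mul, ← Units.val_mul, mul_inv_cancel, Units.val_one]
  · intro g d hd
    have hd' : (g : Matrix (Fin 3) (Fin 3) F) = diagonal d := hd
    have h1 : d 0 * d 1 * d 2 = 1 := by
      have h2 := g.2
      rw [hd', Matrix.det_diagonal, Fin.prod_univ_three] at h2
      exact h2
    have h0 : d 0 ≠ 0 := by
      intro h
      rw [h] at h1
      simp at h1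
    have h0' : d 1 ≠ 0 := by
      intro h
      rw [h] at h1
      simp at h1
    refine ⟨Units.mk0 _ h0, trivial, Units.mk0 _ h0', trivial, ?_⟩
    funext i
    fin_cases i
    · rfl
    · rfl
    · show d 2 = (((Units.mk0 _ h0 * Units.mk0 _ h0')⁻¹ : Fˣ) : F)
      rw [Units.val_inv_eq_inv_val, Units.val_mul, Units.val_mk0, Units.val_mk0]
      exact eq_inv_of_mul_eq_one_right h1

theorem psl3_all {M : Subgroup (Matrix.ProjectiveSpecialLinearGroup (Fin 3) F)}
    (hM : IsCoatom M) : (1 / BB : ℝ) * (Nat.card (Matrix.ProjectiveSpecialLinearGroup (Fin 3) F) : ℝ) ≤ nd M := by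
  by_cases hbig : 6 * NN < Fintype.card F
  · exact of_large (psl3_large hbig hM)
  · haveI : Finite (Matrix.ProjectiveSpecialLinearGroup (Fin 3) F) := by
      classical
      exact Quotient.finite _
    refine nd_small ?_ hM
    have h1 : Nat.card (Matrix.ProjectiveSpecialLinearGroup (Fin 3) F) ≤ Nat.card (Matrix.SpecialLinearGroup (Fin 3) F) :=
      Nat.card_le_card_of_surjective (pr 3 F) (QuotientGroup.mk'_surjective _)
    refine (h1.trans card_sl_le).trans (le_trans ?_ (BB_le (not_lt.1 hbig)))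
    exact Nat.pow_le_pow_right Fintype.card_pos (by norm_num)

end Cfsg.Agent.H716.Dg
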