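import Cfsg.Agent.H716.Dg.Cnt
import Cfsg.Agent.H304.PpdClass

/-!
# S5734: elements of order divisible by a primitive prime divisor in subgroups of `GL₃(F)` (helper716, task 2836)
-/

set_option autoImplicit false

namespace Cfsg.Agent.H716.Dg

open Matrix Cfsg.Agent.H851.Dg Cfsg.Agent.H728.DghpNum

section

variable {F : Type*} [Field F] [Fintype F]

/-- Schur -/
theorem ker_of_comm {u : ℕ} (hP : Ppd (Fintype.card F) 3 u) {X : GL (Fin 3) F} (hX : orderOf X = u)
    {Y : Matrix (Fin 3) (Fin 3) F} (hXY : Y * X = X * Y) (hY : Y ≠ 0) {v : Fin 3 → F} (hv : Y *ᵥ v = 0) : v = 0 := by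
  let W : Submodule F (Fin 3 → F) := LinearMap.ker (Matrix.toLin' Y)
  have hW : ∀ w ∈ W, (X : Matrix (Fin 3) (Fin 3) F) *ᵥ w ∈ W := by
    intro w hw
    have h1 : Y *ᵥ w = 0 := by
      have := LinearMap.mem_ker.1 hw
      rwa [Matrix.toLin'_apply] at this
    rw [LinearMap.mem_ker, Matrix.toLin'_apply, Matrix.mulVec_mulVec, hXY, ← Matrix.mulVec_mulVec, h1, Matrix.mulVec_zero]
  have hvW : v ∈ W := by rw [LinearMap.mem_ker, Matrix.toLin'_apply, hv]
  rcases Cfsg.Agent.H304.Ppd.le_finrank_of_mem_stabilizer hP hX hW with h | h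
  · exfalso
    have h2 : W = ⊤ := by
      apply Submodule.eq_top_of_finrank_eq
      have h3 := Submodule.finrank_le W
      rw [Module.finrank_fin_fun] at h3 ⊢
      omega
    apply hY
    have h4 : Matrix.toLin' Y = 0 := LinearMap.ker_eq_top.1 h2
    exact (LinearEquiv.map_eq_zero_iff Matrix.toLin').1 h4
  · have h2 : Module.finrank F W = 0 := by
      rw [Fintype.card_fin] at h
      omega
    have h3 : W = ⊥ := Submodule.finrank_eq_zero.1 h2
    rw [h3] at hvW
    exact (Submodule.mem_bot F).1 hvW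

/-- the centralizer algebra of an element of primitive order -/
abbrev cen (X : GL (Fin 3) F) : Subalgebra F (Matrix (Fin 3) (Fin 3) F) :=
  Subalgebra.centralizer F {(X : Matrix (Fin 3) (Fin 3) F)}

omit [Fintype F] in
theorem mem_cen {X : GL (Fin 3) F} {Y : Matrix (Fin 3) (Fin 3) F} : Y ∈ cen X ↔ Y * X = X * Y := by
  rw [Subalgebra.mem_centralizer_iff]
  constructor
  · intro h
    exact (h _ rfl).symm
  · rintro h _ rfl
    exact h.symm

theorem isDomain_cen {u : ℕ} (hP : Ppd (Fintype.card F) 3 u) {X : GL (Fin 3) F} (hX : orderOf X = u) :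
    IsDomain (cen X) := by
  have h1 : NoZeroDivisors (cen X) := by
    constructor
    rintro ⟨a, ha⟩ ⟨b, hb⟩ hab
    by_contra hcon
    push Not at hcon
    obtain ⟨ha0, hb0⟩ := hcon
    have hab' : a * b = 0 := congrArg Subtype.val hab
    have ha0' : a ≠ 0 := fun h => ha0 (Subtype.ext h)
    apply hb0
    apply Subtype.ext
    show b = 0
    apply Matrix.mulVec_injective
    ext1 v
    rw [Matrix.zero_mulVec]
    refine ker_of_comm hP hX (mem_cen.1 ha) ha0' (v := b *ᵥ v) ?_
    rw [Matrix.mulVec_mulVec, hab', Matrix.zero_mulVec]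
  have h2 : Nontrivial (cen X) := ⟨⟨0, 1, fun h => by
    have h3 : (0 : Matrix (Fin 3) (Fin 3) F) = 1 := congrArg Subtype.val h
    exact zero_ne_one h3⟩⟩
  exact NoZeroDivisors.to_isDomain _

theorem comm_of_mem {u : ℕ} (hP : Ppd (Fintype.card F) 3 u) {X : GL (Fin 3) F} (hX : orderOf X = u)
    {a b : Matrix (Fin 3) (Fin 3) F} (ha : a * X = X * a) (hb : b * X = X * b) : a * b = b * a := by
  have := isDomain_cen hP hX
  have h1 : IsField (cen X) := Finite.isDomain_to_isField _
  exact congrArg Subtype.val (h1.mul_comm ⟨a, mem_cen.2 ha⟩ ⟨b, mem_cen.2 hb⟩)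

/-- the number of elements of the centralizer with a given characteristic polynomial -/
theorem card_roots_le {u : ℕ} (hP : Ppd (Fintype.card F) 3 u) {X : GL (Fin 3) F} (hX : orderOf X = u)
    (p : Polynomial F) (hp : p.Monic) (hp3 : p.natDegree = 3) :
    Nat.card {b : cen X // Polynomial.aeval (b : Matrix (Fin 3) (Fin 3) F) p = 0} ≤ 3 := by
  classical
  have hdom := isDomain_cen hP hX
  let _ : CommRing (cen X) := { (inferInstance : Ring (cen X)) with
    mul_comm := (Finite.isDomain_to_isField (cen X)).mul_comm }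
  let P : Polynomial (cen X) := p.map (algebraMap F (cen X))
  have hPm : P.Monic := hp.map _
  have hPd : P.natDegree = 3 := by rw [hp.natDegree_map, hp3]
  have hP0 : P ≠ 0 := hPm.ne_zero
  let f : {b : cen X // Polynomial.aeval (b : Matrix (Fin 3) (Fin 3) F) p = 0} → P.roots.toFinset := fun b =>
    ⟨b.1, by
      rw [Multiset.mem_toFinset, Polynomial.mem_roots hP0, Polynomial.IsRoot, Polynomial.eval_map_algebraMap]
      apply Subtype.ext
      have h1 : ((Polynomial.aeval b.1 p : cen X) : Matrix (Fin 3) (Fin 3) F) =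
          Polynomial.aeval (b.1 : Matrix (Fin 3) (Fin 3) F) p :=
        (Polynomial.aeval_algHom_apply (cen X).val b.1 p).symm
      rw [h1, b.2]
      rfl⟩
  have hf : Function.Injective f := fun a b h => Subtype.ext (congrArg (fun z => z.1) h)
  calc Nat.card _ ≤ Nat.card P.roots.toFinset := Nat.card_le_card_of_injective f hf
    _ = P.roots.toFinset.card := by rw [Nat.card_eq_fintype_card, Fintype.card_coe]
    _ ≤ Multiset.card P.roots := Multiset.toFinset_card_le _
    _ ≤ P.natDegree := Polynomial.card_roots' P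
    _ = 3 := hPd

end

/-- **Elements of order divisible by a primitive prime.** -/
theorem sing3 {F : Type*} [Field F] [Fintype F] {G : Type*} [Group G] [Finite G] (φ : G →* GL (Fin 3) F)
    (hφ : Function.Injective φ) {u : ℕ} (hP : Ppd (Fintype.card F) 3 u) (hu : u ∣ Nat.card G) :
    Nat.card G ≤ 6 * Nat.card {x : G // u ∣ orderOf x} := by
  classical
  have hup := hP.prime
  have hfu : Fact u.Prime := ⟨hup⟩
  obtain ⟨z, hz⟩ := exists_prime_orderOf_dvd_card' (G := G) u hu
  have hzo : orderOf (φ z) = u := by rw [orderOf_injective φ hφ, hz]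
  have hval : ∀ {a b : G}, ((φ a : GL (Fin 3) F) : Matrix (Fin 3) (Fin 3) F) * (φ b : GL (Fin 3) F) =
      (φ b : GL (Fin 3) F) * (φ a : GL (Fin 3) F) ↔ a * b = b * a := by
    intro a b
    rw [← Units.val_mul, ← Units.val_mul, ← map_mul, ← map_mul]
    exact ⟨fun h => hφ (Units.ext h), fun h => by rw [h]⟩
  -- commuting with an element of order `u` is transitive
  have htr : ∀ y : G, orderOf y = u → ∀ a b : G, a * y = y * a → b * y = y * b → a * b = b * a := by
    intro y hy a b ha hb
    have hyo : orderOf (φ y) = u := by rw [orderOf_injective φ hφ, hy]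
    exact hval.1 (comm_of_mem hP hyo (hval.2 ha) (hval.2 hb))
  let C : Subgroup G := Subgroup.centralizer {z}
  have hC : ∀ {x : G}, x ∈ C ↔ x * z = z * x := by
    intro x
    rw [Subgroup.mem_centralizer_singleton_iff]
  let E : Set G := {x | x ∈ C ∧ u ∣ orderOf x}
  have hzC : z ∈ C := hC.2 rfl
  have hcomm : ∀ a ∈ C, ∀ b ∈ C, a * b = b * a := fun a ha b hb => htr z hz a b (hC.1 ha) (hC.1 hb)
  have h1 : ∀ a ∈ E, ∀ g : G, g * a = a * g → g ∈ C := by
    rintro a ⟨haC, hau⟩ g hg
    have h2 : orderOf (a ^ (orderOf a / u)) = u := orderOf_pow_orderOf_div (orderOf_pos a).ne' hau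
    rw [hC]
    refine htr (a ^ (orderOf a / u)) h2 g z ?_ ?_
    · exact (show Commute g a from hg).pow_right _
    · exact (show Commute z a from (hC.1 haC).symm).pow_right _
  have h2 : ∀ a ∈ E, Nat.card {b : G // b ∈ E ∧ IsConj a b} ≤ 3 := by
    rintro a ⟨haC, hau⟩
    let p := ((φ a : GL (Fin 3) F) : Matrix (Fin 3) (Fin 3) F).charpoly
    refine le_trans ?_ (card_roots_le hP hzo p (Matrix.charpoly_monic _) (by
      rw [Matrix.charpoly_natDegree_eq_dim, Fintype.card_fin]))
    refine Nat.card_le_card_of_injective (fun b => ⟨⟨((φ b.1 : GL (Fin 3) F) : Matrix (Fin 3) (Fin 3) F),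
      mem_cen.2 (hval.2 (hC.1 b.2.1.1))⟩, ?_⟩) ?_
    · have h3 : p = ((φ b.1 : GL (Fin 3) F) : Matrix (Fin 3) (Fin 3) F).charpoly := charpoly_of_conj φ b.2.2
      show Polynomial.aeval ((φ b.1 : GL (Fin 3) F) : Matrix (Fin 3) (Fin 3) F) p = 0
      rw [h3]
      exact Matrix.aeval_self_charpoly _
    · intro b c hbc
      apply Subtype.ext
      apply hφ
      apply Units.ext
      exact congrArg (fun t => ((t.1 : cen (φ z)) : Matrix (Fin 3) (Fin 3) F)) hbc
  -- `|C| ≤ 2 |E|`
  have h3 : Nat.card C ≤ 2 * Nat.card E := by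
    let D : Set G := {x | x ∈ C ∧ ¬ u ∣ orderOf x}
    have h4 : Nat.card D ≤ Nat.card E := by
      refine Nat.card_le_card_of_injective (fun x : D => (⟨x.1 * z, C.mul_mem x.2.1 hzC, ?_⟩ : E)) ?_
      · by_contra hcon
        have h5 : Commute (x.1 * z) x.1⁻¹ := by
          have : Commute z x.1 := (hC.1 x.2.1).symm
          exact ((Commute.refl x.1).mul_left this).inv_right
        have h6 := h5.orderOf_mul_dvd_lcm
        have h7 : x.1 * z * x.1⁻¹ = z := by rw [hC.1 x.2.1]; group
        rw [h7, hz, orderOf_inv] at h6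
        rcases hup.dvd_mul.1 (h6.trans (Nat.lcm_dvd_mul _ _)) with h8 | h8
        · exact hcon h8
        · exact x.2.2 h8
      · intro a b hab
        apply Subtype.ext
        exact mul_right_cancel (congrArg Subtype.val hab)
    have h5 : Nat.card C ≤ Nat.card D + Nat.card E := by
      rw [← Nat.card_sum]
      refine Nat.card_le_card_of_injective (fun x : C => if h : u ∣ orderOf (x : G) then Sum.inr ⟨x.1, x.2, h⟩
        else Sum.inl ⟨x.1, x.2, h⟩) ?_
      intro a b hab
      simp only at hab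
      split_ifs at hab with ha hb hb
      · exact Subtype.ext (congrArg (fun z : E => (z : G)) (Sum.inr.inj hab))
      · exact Subtype.ext (congrArg (fun z : D => (z : G)) (Sum.inl.inj hab))
    omega
  have h4 := torus_count C E 3 h1 h2
  have h5 : Nat.card {x : G // ∃ a ∈ E, IsConj a x} ≤ Nat.card {x : G // u ∣ orderOf x} := by
    refine Nat.card_le_card_of_injective (fun x => ⟨x.1, ?_⟩) ?_
    · obtain ⟨a, ha, hax⟩ := x.2
      obtain ⟨g, hg⟩ := isConj_iff.1 hax
      have h6 : orderOf (g * a * g⁻¹) = orderOf a := by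
        have := orderOf_injective (MulAut.conj g).toMonoidHom (MulAut.conj g).injective a
        simpa using this
      rw [← hg, h6]
      exact ha.2
    · intro a b hab
      exact Subtype.ext (congrArg (fun z : {x : G // u ∣ orderOf x} => (z : G)) hab)
  have hE0 : 0 < Nat.card E := by
    have : Nonempty E := ⟨⟨z, hzC, hz ▸ dvd_rfl⟩⟩
    exact Nat.card_pos
  have h6 : Nat.card E * Nat.card G ≤ Nat.card E * (6 * Nat.card {x : G // u ∣ orderOf x}) := by
    calc Nat.card E * Nat.card G ≤ 3 * Nat.card C * Nat.card {x : G // ∃ a ∈ E, IsConj a x} := h4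
      _ ≤ 3 * (2 * Nat.card E) * Nat.card {x : G // u ∣ orderOf x} :=
          Nat.mul_le_mul (Nat.mul_le_mul_left _ h3) h5
      _ = _ := by ring
  exact Nat.le_of_mul_le_mul_left h6 hE0

end Cfsg.Agent.H716.Dg
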